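import Mathlib.FieldTheory.Fixed
import Mathlib.FieldTheory.Galois.Basic
import Mathlib.LinearAlgebra.TensorProduct.Basis
import Mathlib.LinearAlgebra.TensorProduct.Tower
import Mathlib.RingTheory.TensorProduct.Free

/-! Galois descent for vector spaces along a finite Galois extension. -/

open scoped TensorProduct

namespace Groth.Agent.GalDescent

variable (k : Type*) (K : Type*) [Field k] [Field K] [Algebra k K] [FiniteDimensional k K]

omit [FiniteDimensional k K] in
/-- There are `d i` with `∑ d i * σ (b i) = δ σ 1`, for a basis `b`. -/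
theorem exists_dual {ι : Type*} [Fintype ι] (b : Module.Basis ι k K) :
    ∃ d : ι → K, (∑ i, d i * b i = 1) ∧ ∀ σ : K ≃ₐ[k] K, σ ≠ 1 → ∑ i, d i * σ (b i) = 0 := by
  classical
  let v : (K ≃ₐ[k] K) → ι → K := fun σ i => σ (b i)
  have hv : LinearIndependent K v := by
    rw [linearIndependent_iff']
    intro s c hc
    have h0 : LinearIndependent K (fun σ : K ≃ₐ[k] K => (σ : K →ₐ[k] K).toLinearMap) :=
      (linearIndependent_toLinearMap k K K).comp _ fun σ τ h => AlgEquiv.ext fun x =>
        DFunLike.congr_fun h x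
    refine (linearIndependent_iff'.1 h0) s c (b.ext fun i => ?_)
    simpa [v, Finset.sum_apply] using congrFun hc i
  obtain ⟨φ, hφ⟩ := LinearMap.exists_extend
    ((Finsupp.lapply (1 : K ≃ₐ[k] K)).comp hv.repr)
  refine ⟨fun i => φ (Pi.single i 1), ?_⟩
  have key : ∀ σ, ∑ i, φ (Pi.single i 1) * v σ i = if σ = 1 then 1 else 0 := by
    intro σ
    have h1 : φ (v σ) = ∑ i, φ (Pi.single i 1) * v σ i := by
      conv_lhs => rw [pi_eq_sum_univ' (v σ)]
      simp [mul_comm]
    have h2 := DFunLike.congr_fun hφ ⟨v σ, Submodule.subset_span (Set.mem_range_self σ)⟩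
    simp only [LinearMap.comp_apply, Submodule.coe_subtype, Finsupp.lapply_apply] at h2
    rw [hv.repr_eq_single σ _ rfl, Finsupp.single_apply] at h2
    rw [← h1, h2]
  refine ⟨by simpa [v] using key 1, fun σ hσ => by simpa [v, hσ] using key σ⟩

variable [IsGalois k K]

variable {k K} in
theorem mem_range_of_fixed (x : K) (h : ∀ σ : K ≃ₐ[k] K, σ x = x) :
    ∃ c : k, algebraMap k K c = x :=
  IntermediateField.mem_bot.1 ((IsGalois.mem_bot_iff_fixed x).2 h)

variable {k K}
variable {M : Type*} [AddCommGroup M] [Module K M] [Module k M] [IsScalarTower k K M]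
  {W : Type*} [AddCommGroup W] [Module k W]

/-- The `K`-linear extension of `ι : W →ₗ[k] M` to `K ⊗[k] W`. -/
noncomputable def extend (ι : W →ₗ[k] M) : K ⊗[k] W →ₗ[K] M :=
  TensorProduct.AlgebraTensorModule.lift
    { toFun := fun c => c • ι
      map_add' := fun a b => add_smul a b ι
      map_smul' := fun a b => mul_smul a b ι }

omit [FiniteDimensional k K] [IsGalois k K] in
@[simp] theorem extend_tmul (ι : W →ₗ[k] M) (c : K) (w : W) :
    extend ι (c ⊗ₜ[k] w) = c • ι w := rfl

/-- Galois descent: `K ⊗ M^Γ → M` is bijective for a semilinear action `s`. -/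
theorem extend_bijective (s : (K ≃ₐ[k] K) → M →+ M)
    (hsmul : ∀ σ (c : K) m, s σ (c • m) = σ c • s σ m)
    (hmul : ∀ σ τ m, s (σ * τ) m = s σ (s τ m)) (hone : ∀ m, s 1 m = m)
    (ι : W →ₗ[k] M) (hι : Function.Injective ι)
    (hr : ∀ x, x ∈ LinearMap.range ι ↔ ∀ σ, s σ x = x) :
    Function.Bijective (extend (K := K) ι) := by
  classical
  obtain ⟨b⟩ : Nonempty (Module.Basis (Fin (Module.finrank k K)) k K) :=
    ⟨Module.finBasis k K⟩
  obtain ⟨d, hd1, hd0⟩ := exists_dual k K b
  have hfix : ∀ (w : W) σ, s σ (ι w) = ι w := fun w => (hr _).1 ⟨w, rfl⟩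
  have hT : ∀ m : M, ∃ w : W, ι w = ∑ σ, s σ m := by
    intro m
    refine (hr _).2 fun τ => ?_
    rw [map_sum]
    simp_rw [← hmul]
    exact Fintype.sum_equiv (Equiv.mulLeft τ) _ _ fun σ => rfl
  choose T hT using hT
  constructor
  · refine Function.LeftInverse.injective (g := fun m => ∑ i, d i ⊗ₜ[k] T (b i • m)) fun z => ?_
    induction z using TensorProduct.induction_on with
    | zero =>
      have : T 0 = 0 := hι (by simp [hT])
      simp [this]
    | tmul c w =>
      have : ∀ i, ∃ a : k, algebraMap k K a = ∑ σ : K ≃ₐ[k] K, σ (b i * c) := fun i =>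
        mem_range_of_fixed _ fun τ => by
          rw [map_sum]; exact Fintype.sum_equiv (Equiv.mulLeft τ) _ _ fun σ => rfl
      choose a ha using this
      have hTi : ∀ i, T (b i • extend ι (c ⊗ₜ[k] w)) = a i • w := fun i => hι (by
        rw [hT, map_smul, extend_tmul, ← mul_smul, ← algebraMap_smul K (a i) (ι w), ha,
          Finset.sum_smul]
        exact Finset.sum_congr rfl fun σ _ => by rw [hsmul, hfix])
      simp only [hTi, TensorProduct.tmul_smul, TensorProduct.smul_tmul', ← TensorProduct.sum_tmul]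
      congr 1
      calc ∑ i, a i • d i = ∑ σ : K ≃ₐ[k] K, (∑ i, d i * σ (b i)) * σ c := by
            simp only [Algebra.smul_def, ha, map_mul, Finset.sum_mul]
            rw [Finset.sum_comm]
            exact Finset.sum_congr rfl fun σ _ => Finset.sum_congr rfl fun i _ => by ring
        _ = c := by
            rw [Finset.sum_eq_single (1 : K ≃ₐ[k] K) (fun σ _ hσ => by rw [hd0 σ hσ, zero_mul])
              (by simp)]
            simp [hd1]
    | add x y hx hy =>
      have : ∀ m m', T (m + m') = T m + T m' := fun m m' =>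
        hι (by simp only [map_add, hT, Finset.sum_add_distrib])
      simp only [map_add, smul_add, this, TensorProduct.tmul_add, Finset.sum_add_distrib]
      exact congrArg₂ (· + ·) hx hy
  · refine fun m => ⟨∑ i, d i ⊗ₜ[k] T (b i • m), ?_⟩
    simp only [map_sum, extend_tmul, hT, hsmul, Finset.smul_sum, ← mul_smul]
    rw [Finset.sum_comm]
    simp only [← Finset.sum_smul]
    rw [Finset.sum_eq_single (1 : K ≃ₐ[k] K) (fun σ _ hσ => by rw [hd0 σ hσ, zero_smul]) (by simp)]
    simp [hd1, hone]

omit [FiniteDimensional k K] [IsGalois k K] in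
/-- `σ` acts on the left factor. -/
theorem smul_tmul_left (σ : K ≃ₐ[k] K) (c : K) (w : W) :
    σ • (c ⊗ₜ[k] w) = σ c ⊗ₜ[k] w := rfl

/-- The fixed vectors of `K ⊗ W` are the `1 ⊗ w`. -/
theorem exists_of_tensor_fixed (x : K ⊗[k] W) (h : ∀ σ : K ≃ₐ[k] K, σ • x = x) :
    ∃ w : W, (1 : K) ⊗ₜ[k] w = x := by
  classical
  let b := Module.Free.chooseBasis k W
  let e := TensorProduct.equivFinsuppOfBasisRight (M := K) b
  have he : ∀ (σ : K ≃ₐ[k] K) (z : K ⊗[k] W) i, e (σ • z) i = σ (e z i) := by
    intro σ z i
    induction z using TensorProduct.induction_on with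
    | zero => simp
    | tmul c w => simp [e, smul_tmul_left, Algebra.smul_def]
    | add x y hx hy => simp [smul_add, hx, hy]
  have : ∀ i, ∃ a : k, algebraMap k K a = e x i := fun i =>
    mem_range_of_fixed _ fun σ => by rw [← he, h]
  choose a ha using this
  refine ⟨b.repr.symm (Finsupp.onFinset (e x).support a fun i hi => ?_), ?_⟩
  · rw [Finsupp.mem_support_iff, ← ha]
    simpa using hi
  · apply e.injective
    ext i
    rw [TensorProduct.equivFinsuppOfBasisRight_apply_tmul_apply]
    simp [← ha, Algebra.smul_def]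

omit [FiniteDimensional k K] [IsGalois k K] in
theorem one_tmul_injective : Function.Injective (fun w : W => (1 : K) ⊗ₜ[k] w) := by
  classical
  intro w w' h
  let b := Module.Free.chooseBasis k W
  refine b.repr.injective (Finsupp.ext fun i => (algebraMap k K).injective ?_)
  have := DFunLike.congr_fun (congrArg (TensorProduct.equivFinsuppOfBasisRight (M := K) b) h) i
  simpa [Algebra.smul_def] using this

/-- A Galois equivariant isomorphism of base changes comes from a unique one over `k`. -/
theorem exists_descend {W' : Type*} [AddCommGroup W'] [Module k W']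
    (h : K ⊗[k] W ≃ₗ[K] K ⊗[k] W')
    (hσ : ∀ (σ : K ≃ₐ[k] K) x, h (σ • x) = σ • h x) :
    ∃ e : W ≃ₗ[k] W', ∀ w, h ((1 : K) ⊗ₜ[k] w) = (1 : K) ⊗ₜ[k] e w := by
  have h1 : ∀ w, ∃ w' : W', (1 : K) ⊗ₜ[k] w' = h (1 ⊗ₜ[k] w) := fun w =>
    exists_of_tensor_fixed _ fun σ => by rw [← hσ, smul_tmul_left, map_one]
  have h2 : ∀ w', ∃ w : W, (1 : K) ⊗ₜ[k] w = h.symm (1 ⊗ₜ[k] w') := fun w' =>
    exists_of_tensor_fixed _ fun σ => by
      apply h.injective
      rw [hσ, h.apply_symm_apply, smul_tmul_left, map_one]
  choose f hf using h1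
  choose g hg using h2
  refine ⟨
    { toFun := f
      invFun := g
      map_add' := fun a b => one_tmul_injective (k := k) (K := K) (by
        simp only [hf, TensorProduct.tmul_add, map_add])
      map_smul' := fun a b => one_tmul_injective (k := k) (K := K) (by
        simp only [hf, RingHom.id_apply, TensorProduct.tmul_smul]
        exact LinearMap.map_smul_of_tower h.toLinearMap a _)
      left_inv := fun w => one_tmul_injective (k := k) (K := K) (by simp only [hg, hf, h.symm_apply_apply])
      right_inv := fun w => one_tmul_injective (k := k) (K := K) (by simp only [hg, hf, h.apply_symm_apply]) },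
    fun w => (hf w).symm⟩

end Groth.Agent.GalDescent
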