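import Mathlib.LinearAlgebra.Quotient.Basic
import Mathlib.LinearAlgebra.Pi
import Mathlib.LinearAlgebra.Isomorphisms
import Mathlib.SetTheory.Cardinal.Finite
import Mathlib.Data.Fintype.Powerset
import Mathlib.Data.Fintype.Pi
import Mathlib.Data.Fintype.Quotient
import Mathlib.Data.Finite.Prod
import Mathlib.SetTheory.Cardinal.NatCard
import Mathlib.LinearAlgebra.Quotient.Card
import Mathlib.Algebra.BigOperators.Group.Finset.Sigma

/-! Cancellation for finite modules by counting homomorphisms. -/

namespace Groth.Agent.GalDescent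

universe u v

variable {R : Type u} [Ring R]

/-- Homomorphisms are injections out of quotients. -/
noncomputable def homEquivSigma (X M : Type v) [AddCommGroup X] [Module R X] [AddCommGroup M]
    [Module R M] :
    (X →ₗ[R] M) ≃ Σ S : Submodule R X, {h : X ⧸ S →ₗ[R] M // Function.Injective h} where
  toFun h := ⟨LinearMap.ker h, (LinearMap.ker h).liftQ h le_rfl,
    LinearMap.ker_eq_bot.1 (Submodule.ker_liftQ_eq_bot _ _ _ le_rfl)⟩
  invFun p := p.2.1.comp p.1.mkQ
  left_inv h := Submodule.liftQ_mkQ _ _ _
  right_inv := by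
    have hinj : Function.Injective (fun p : (Σ S : Submodule R X,
        {h : X ⧸ S →ₗ[R] M // Function.Injective h}) => p.2.1.comp p.1.mkQ) := by
      rintro ⟨S, h, hh⟩ ⟨S', h', hh'⟩ he
      have hker : ∀ (T : Submodule R X) (g : X ⧸ T →ₗ[R] M), Function.Injective g →
          LinearMap.ker (g.comp T.mkQ) = T := fun T g hg => by
        rw [LinearMap.ker_comp, LinearMap.ker_eq_bot.2 hg, Submodule.comap_bot, Submodule.ker_mkQ]
      obtain rfl : S = S' := (hker S h hh).symm.trans ((congrArg LinearMap.ker he).trans (hker S' h' hh'))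
      obtain rfl : h = h' := Submodule.linearMap_qext _ he
      rfl
    exact fun p => hinj (Submodule.liftQ_mkQ _ _ _)

theorem card_inj_eq {M N : Type v} [AddCommGroup M] [Module R M] [AddCommGroup N] [Module R N]
    [Finite M] [Finite N]
    (h : ∀ (X : Type v) [AddCommGroup X] [Module R X] [Finite X],
      Nat.card (X →ₗ[R] M) = Nat.card (X →ₗ[R] N)) (n : ℕ) :
    ∀ (X : Type v) [AddCommGroup X] [Module R X] [Finite X], Nat.card X = n →
      Nat.card {f : X →ₗ[R] M // Function.Injective f} =
        Nat.card {f : X →ₗ[R] N // Function.Injective f} := by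
  classical
  induction n using Nat.strong_induction_on with
  | _ n ih =>
    intro X _ _ _ hX
    have : Finite (Submodule R X) := Finite.of_injective _ SetLike.coe_injective
    have : Fintype (Submodule R X) := Fintype.ofFinite _
    have hq : ∀ S : Submodule R X, Finite (X ⧸ S) := fun S =>
      Finite.of_surjective _ S.mkQ_surjective
    have hfin : ∀ (S : Submodule R X), Finite (X ⧸ S →ₗ[R] M) ∧ Finite (X ⧸ S →ₗ[R] N) := fun S =>
      ⟨Finite.of_injective _ DFunLike.coe_injective, Finite.of_injective _ DFunLike.coe_injective⟩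
    have := fun S => (hfin S).1
    have := fun S => (hfin S).2
    have hX' := h X
    rw [Nat.card_congr (homEquivSigma X M), Nat.card_congr (homEquivSigma X N), Nat.card_sigma,
      Nat.card_sigma, Fintype.sum_eq_add_sum_compl (⊥ : Submodule R X),
      Fintype.sum_eq_add_sum_compl (⊥ : Submodule R X)] at hX'
    rw [Finset.sum_congr rfl (g := fun S : Submodule R X =>
        Nat.card {f : X ⧸ S →ₗ[R] N // Function.Injective f}) fun S hS => ?_,
      add_left_inj] at hX'
    · let e := Submodule.quotEquivOfEqBot (⊥ : Submodule R X) rfl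
      have cong : ∀ (P : Type v) [AddCommGroup P] [Module R P],
          Nat.card {f : X ⧸ (⊥ : Submodule R X) →ₗ[R] P // Function.Injective f} =
            Nat.card {f : X →ₗ[R] P // Function.Injective f} := fun P _ _ =>
        Nat.card_congr
          { toFun := fun f => ⟨f.1.comp e.symm.toLinearMap, f.2.comp e.symm.injective⟩
            invFun := fun f => ⟨f.1.comp e.toLinearMap, f.2.comp e.injective⟩
            left_inv := fun f => Subtype.ext (LinearMap.ext fun x => by simp)
            right_inv := fun f => Subtype.ext (LinearMap.ext fun x => by simp) }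
      rwa [cong M, cong N] at hX'
    · refine ih _ (hX ▸ ?_) _ rfl
      have hS' : S ≠ ⊥ := by simpa using hS
      obtain ⟨x, hxS, hx0⟩ := Submodule.exists_mem_ne_zero_of_ne_bot hS'
      have := Fintype.ofFinite X
      have := Fintype.ofFinite (X ⧸ S)
      rw [Nat.card_eq_fintype_card, Nat.card_eq_fintype_card]
      exact Fintype.card_lt_of_surjective_not_injective S.mkQ S.mkQ_surjective fun hinj =>
        hx0 (hinj (by simpa using hxS))

/-- Lovász: finite modules with the same Hom counts are isomorphic. -/
theorem nonempty_equiv_of_card_hom_eq {M N : Type v} [AddCommGroup M] [Module R M] [AddCommGroup N]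
    [Module R N] [Finite M] [Finite N]
    (h : ∀ (X : Type v) [AddCommGroup X] [Module R X] [Finite X],
      Nat.card (X →ₗ[R] M) = Nat.card (X →ₗ[R] N)) :
    Nonempty (M ≃ₗ[R] N) := by
  have h1 := card_inj_eq h (Nat.card M) M rfl
  have h2 := card_inj_eq h (Nat.card N) N rfl
  have : Finite (M →ₗ[R] M) := Finite.of_injective _ DFunLike.coe_injective
  have : Finite (M →ₗ[R] N) := Finite.of_injective _ DFunLike.coe_injective
  have : Finite (N →ₗ[R] M) := Finite.of_injective _ DFunLike.coe_injective
  have : Finite (N →ₗ[R] N) := Finite.of_injective _ DFunLike.coe_injective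
  have : Nonempty {f : M →ₗ[R] M // Function.Injective f} := ⟨⟨LinearMap.id, Function.injective_id⟩⟩
  have : Nonempty {f : N →ₗ[R] N // Function.Injective f} := ⟨⟨LinearMap.id, Function.injective_id⟩⟩
  obtain ⟨⟨f, hf⟩⟩ : Nonempty {f : M →ₗ[R] N // Function.Injective f} :=
    (Nat.card_pos_iff.1 (h1 ▸ Nat.card_pos)).1
  obtain ⟨⟨g, hg⟩⟩ : Nonempty {f : N →ₗ[R] M // Function.Injective f} :=
    (Nat.card_pos_iff.1 (h2.symm ▸ Nat.card_pos)).1
  exact ⟨LinearEquiv.ofBijective f (Nat.bijective_iff_injective_and_card f |>.2
    ⟨hf, le_antisymm (Nat.card_le_card_of_injective f hf) (Nat.card_le_card_of_injective g hg)⟩)⟩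

/-- If `M^ι ≅ N^ι` then `M ≅ N`, for finite modules. -/
theorem nonempty_equiv_of_pi_equiv {M N : Type v} [AddCommGroup M] [Module R M] [AddCommGroup N]
    [Module R N] [Finite M] [Finite N] {ι : Type*} [Fintype ι] [Nonempty ι]
    (e : (ι → M) ≃ₗ[R] (ι → N)) : Nonempty (M ≃ₗ[R] N) := by
  refine nonempty_equiv_of_card_hom_eq fun X _ _ _ => ?_
  have key : ∀ (P : Type v) [AddCommGroup P] [Module R P],
      Nat.card (X →ₗ[R] (ι → P)) = Nat.card (X →ₗ[R] P) ^ Fintype.card ι := fun P _ _ => by
    rw [Nat.card_congr
      ({ toFun := fun h i => (LinearMap.proj i).comp h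
         invFun := LinearMap.pi
         left_inv := fun h => rfl
         right_inv := fun h => rfl } : (X →ₗ[R] (ι → P)) ≃ (ι → (X →ₗ[R] P))),
      Nat.card_fun, Nat.card_eq_fintype_card (α := ι)]
  refine Nat.pow_left_injective (Fintype.card_ne_zero (α := ι)) ?_
  change _ ^ _ = _ ^ _
  rw [← key, ← key]
  exact Nat.card_congr
    { toFun := fun h => e.toLinearMap.comp h
      invFun := fun h => e.symm.toLinearMap.comp h
      left_inv := fun h => LinearMap.ext fun x => by simp
      right_inv := fun h => LinearMap.ext fun x => by simp }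

end Groth.Agent.GalDescent
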