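import Mathlib.Algebra.Algebra.Opposite
import Mathlib.RingTheory.TensorProduct.Finite
import Mathlib.LinearAlgebra.Determinant
import Mathlib.Algebra.MvPolynomial.Funext
import Mathlib.LinearAlgebra.Matrix.MvPolynomial
import Groth.Prelude.Def_GSzCSA
import Groth.Agent.GalDescent.Basic
import Groth.Agent.GalDescent.Lovasz

/-! Hilbert 90 for the units of `K ⊗ A`. -/

open scoped TensorProduct

namespace Groth.Agent.GalDescent

universe u v w

variable {k : Type u} [Field k] {K : Type v} [Field K] [Algebra k K] [FiniteDimensional k K]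
  [IsGalois k K] {A : Type w} [Ring A] [Algebra k A] [FiniteDimensional k A]

attribute [local instance] CSAGal.tensorAction

/-- A unit among the fixed vectors of a twisted action. -/
theorem exists_unit_fixed (a : (K ≃ₐ[k] K) → K ⊗[k] A)
    (hmul : ∀ σ τ, a (σ * τ) = a σ * σ • a τ) (hone : a 1 = 1) :
    ∃ f : K ⊗[k] A, IsUnit f ∧ ∀ σ, a σ * σ • f = f := by
  classical
  let j : A →ₐ[k] K ⊗[k] A := Algebra.TensorProduct.includeRight
  have hj : ∀ (σ : K ≃ₐ[k] K) (b : A), σ • j b = j b := fun σ b => by
    change σ • ((1 : K) ⊗ₜ[k] b) = _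
    rw [smul_tmul_left, map_one]; rfl
  -- the two forms of `A`
  let Fk : ((K ≃ₐ[k] K) → K ⊗[k] A) → Submodule k (K ⊗[k] A) := fun b =>
    { carrier := {x | ∀ σ, b σ * σ • x = x}
      zero_mem' := fun σ => by rw [smul_zero, mul_zero]
      add_mem' := fun {x y} hx hy σ => by rw [smul_add, mul_add, hx σ, hy σ]
      smul_mem' := fun c x hx σ => by rw [smul_comm σ c x, mul_smul_comm, hx σ] }
  have hsmulK : ∀ (σ : K ≃ₐ[k] K) (c : K) (x : K ⊗[k] A), σ • (c • x) = σ c • σ • x := by
    intro σ c x
    induction x using TensorProduct.induction_on with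
    | zero => simp
    | tmul d b => simp [TensorProduct.smul_tmul']
    | add x y hx hy => simp [smul_add, hx, hy]
  have hbij : Function.Bijective (extend (K := K) (Fk a).subtype) := by
    refine extend_bijective
      (fun σ => (AddMonoidHom.mulLeft (a σ)).comp (DistribSMul.toAddMonoidHom _ σ))
      (fun σ c m => ?_) (fun σ τ m => ?_) (fun m => ?_) (Fk a).subtype (Fk a).subtype_injective
      (fun x => by rw [Submodule.range_subtype]; rfl)
    · change a σ * σ • (c • m) = σ c • (a σ * σ • m)
      rw [hsmulK, mul_smul_comm]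
    · change a (σ * τ) * (σ * τ) • m = a σ * σ • (a τ * τ • m)
      rw [hmul, smul_mul', mul_smul, mul_assoc]
    · change a 1 * (1 : K ≃ₐ[k] K) • m = m
      rw [hone, one_mul, one_smul]
  -- it suffices to find an element of `Fk a` generating it
  suffices ∃ f ∈ Fk a, Function.Surjective (LinearMap.mulLeft K f) by
    obtain ⟨f, hf, hs⟩ := this
    have hi := LinearMap.injective_iff_surjective.2 hs
    obtain ⟨g, hg : f * g = 1⟩ := hs 1
    exact ⟨f, ⟨⟨f, g, hg, hi (by simp only [LinearMap.mulLeft_apply]; rw [← mul_assoc, hg, one_mul, mul_one])⟩, rfl⟩, hf⟩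
  rcases finite_or_infinite k with hk | hk
  · -- finite base: cancel `F ^ [K : k] ≅ A ^ [K : k]`
    have : Finite K := Module.finite_of_finite k
    have : Finite A := Module.finite_of_finite k
    have : Module.Finite k (K ⊗[k] A) := inferInstance
    have : Finite (K ⊗[k] A) := Module.finite_of_finite k
    let : Module Aᵐᵒᵖ (K ⊗[k] A) := Module.compHom _ j.toRingHom.op
    have hop : ∀ (c : Aᵐᵒᵖ) (x : K ⊗[k] A), c • x = x * j c.unop := fun _ _ => rfl
    let F : ((K ≃ₐ[k] K) → K ⊗[k] A) → Submodule Aᵐᵒᵖ (K ⊗[k] A) := fun b =>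
      { carrier := {x | ∀ σ, b σ * σ • x = x}
        zero_mem' := fun σ => by rw [smul_zero, mul_zero]
        add_mem' := fun {x y} hx hy σ => by rw [smul_add, mul_add, hx σ, hy σ]
        smul_mem' := fun c x hx σ => by rw [hop, smul_mul', hj, ← mul_assoc, hx σ] }
    let b := Module.finBasis k K
    have hpi : ∀ c : (K ≃ₐ[k] K) → K ⊗[k] A,
        Function.Bijective (extend (K := K) (Fk c).subtype) →
        ∃ e : (Fin (Module.finrank k K) → F c) ≃ₗ[Aᵐᵒᵖ] K ⊗[k] A, True := by
      intro c hc
      let L : (Fin (Module.finrank k K) → F c) →ₗ[Aᵐᵒᵖ] K ⊗[k] A :=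
        { toFun := fun y => ∑ i, b i • (y i : K ⊗[k] A)
          map_add' := fun y z => by simp [smul_add, Finset.sum_add_distrib]
          map_smul' := fun r y => by
            simp only [Pi.smul_apply, Submodule.coe_smul, hop, RingHom.id_apply, Finset.sum_mul,
              smul_mul_assoc] }
      refine ⟨LinearEquiv.ofBijective L ?_, trivial⟩
      let E := TensorProduct.equivFinsuppOfBasisLeft b (N := Fk c)
      have hL : ∀ y : Fin (Module.finrank k K) → F c, L y = extend (Fk c).subtype
          (E.symm (Finsupp.equivFunOnFinite.symm fun i => (⟨(y i).1, (y i).2⟩ : Fk c))) := by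
        intro y
        simp only [E, TensorProduct.equivFinsuppOfBasisLeft_symm_apply]
        rw [Finsupp.sum_fintype _ _ (fun i => by simp), map_sum]
        rfl
      rw [show (L : (Fin (Module.finrank k K) → F c) → K ⊗[k] A) = _ from funext hL]
      exact hc.comp (E.symm.bijective.comp (Finsupp.equivFunOnFinite.symm.bijective.comp
        ⟨fun y z h => funext fun i => Subtype.ext (Subtype.ext_iff.1 (congrFun h i)),
          fun y => ⟨fun i => ⟨(y i).1, (y i).2⟩, rfl⟩⟩))
    have hbij1 : Function.Bijective (extend (K := K) (Fk fun _ => 1).subtype) :=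
      extend_bijective (fun σ => DistribSMul.toAddMonoidHom _ σ) hsmulK mul_smul (one_smul _)
        (Fk fun _ => 1).subtype (Fk fun _ => 1).subtype_injective
        (fun x => by rw [Submodule.range_subtype]; simp only [Fk, one_mul]; rfl)
    obtain ⟨ea, -⟩ := hpi a hbij
    obtain ⟨e1, -⟩ := hpi (fun _ => 1) hbij1
    have : Nonempty (Fin (Module.finrank k K)) := ⟨⟨0, Module.finrank_pos⟩⟩
    obtain ⟨φ⟩ := nonempty_equiv_of_pi_equiv (e1.trans ea.symm)
    let one' : F fun _ => 1 := ⟨1, fun σ => by rw [smul_one, one_mul]⟩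
    refine ⟨φ one', (φ one').2, fun x => ?_⟩
    obtain ⟨z, rfl⟩ := hbij.2 x
    induction z using TensorProduct.induction_on with
    | zero => exact ⟨0, by simp⟩
    | tmul c w =>
      obtain ⟨v, hv⟩ := φ.surjective ⟨w.1, w.2⟩
      obtain ⟨r, hr⟩ := exists_of_tensor_fixed (W := A) (v : K ⊗[k] A) fun σ => by
        have := v.2 σ
        rwa [one_mul] at this
      refine ⟨c • j r, ?_⟩
      have hvr : v = MulOpposite.op r • one' := Subtype.ext <| by
        rw [Submodule.coe_smul, hop, one_mul]
        exact hr.symm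
      have h2 : (w : K ⊗[k] A) = (φ one' : K ⊗[k] A) * j r := by
        have h3 := congrArg Subtype.val hv
        rw [hvr, map_smul, Submodule.coe_smul, hop] at h3
        exact h3.symm
      rw [LinearMap.mulLeft_apply, extend_tmul, mul_smul_comm, ← h2]
      rfl
    | add x y hx hy =>
      obtain ⟨x', hx'⟩ := hx
      obtain ⟨y', hy'⟩ := hy
      exact ⟨x' + y', by rw [map_add, hx', hy', map_add]⟩
  · -- infinite base: a nonzero polynomial
    let bM := Module.finBasis K (K ⊗[k] A)
    let bF := Module.finBasis k (Fk a)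
    let Lm := fun i => LinearMap.toMatrix bM bM (LinearMap.mulLeft K ((bF i : Fk a) : K ⊗[k] A))
    let P : Matrix _ _ (MvPolynomial (Fin (Module.finrank k (Fk a))) K) :=
      ∑ i, (MvPolynomial.X i : MvPolynomial (Fin (Module.finrank k (Fk a))) K) •
        (Lm i).map (MvPolynomial.C : K →+* MvPolynomial (Fin (Module.finrank k (Fk a))) K)
    let Z := fun t : Fin (Module.finrank k (Fk a)) → K => ∑ i, t i • ((bF i : Fk a) : K ⊗[k] A)
    have heval : ∀ t, MvPolynomial.eval t P.det = LinearMap.det (LinearMap.mulLeft K (Z t)) := by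
      intro t
      rw [RingHom.map_det, ← LinearMap.det_toMatrix bM]
      congr 1
      have : LinearMap.mulLeft K (Z t) = ∑ i, t i • LinearMap.mulLeft K ((bF i : Fk a) : K ⊗[k] A) :=
        LinearMap.ext fun x => by simp [Z, Finset.sum_mul]
      rw [this, map_sum]
      ext p q
      simp [Lm, Matrix.sum_apply]
    have hQ : P.det ≠ 0 := by
      intro h0
      obtain ⟨z, hz⟩ := hbij.2 1
      let E := (bF.baseChange K)
      have h1 : Z (E.repr z) = 1 := by
        rw [← hz]
        conv_rhs => rw [← E.sum_repr z]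
        simp [Z, E]
      have := heval (E.repr z)
      rw [h1, h0, map_zero, LinearMap.mulLeft_one, LinearMap.det_id] at this
      exact zero_ne_one this
    obtain ⟨t, ht, hne⟩ : ∃ t ∈ Set.pi Set.univ
        (fun _ : Fin (Module.finrank k (Fk a)) => Set.range (algebraMap k K)),
        MvPolynomial.eval t P.det ≠ 0 := by
      by_contra! h
      exact hQ (MvPolynomial.funext_set _ (fun _ => Set.infinite_range_of_injective
        (algebraMap k K).injective) fun t ht => by rw [h t ht, map_zero])
    choose c hc using fun i => ht i (Set.mem_univ i)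
    refine ⟨Z t, ?_, ?_⟩
    · have : Z t = ((∑ i, c i • bF i : Fk a) : K ⊗[k] A) := by
        simp only [Z, Submodule.coe_sum, Submodule.coe_smul, ← hc, algebraMap_smul]
      rw [this]
      exact SetLike.coe_mem _
    · rw [heval] at hne
      exact ((LinearMap.mulLeft K (Z t)).equivOfDetNeZero hne).surjective

end Groth.Agent.GalDescent
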